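import Cfsg.Agent.FusionPStable.StableQuotientGroup
import Cfsg.Agent.ConjFunctor.MainCor
import Cfsg.Agent.S3836

/-!
# `N(Z(J(S)))` controls strong fusion in a group that is `p`-stable in the normalizer form

The induction of `CfsgLib.ConjFunctor.familyFusion_step`, with the two quotients that are used
there: by `O_{p'}` and, when `G = C(O_p(G)) S`, by `O_p(G)`.
-/

set_option autoImplicit false

universe u

namespace CfsgLib.FusionPStable

open Cfsg Subgroup CfsgLib.ConjFunctor

variable {p : ℕ}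

/-- `Z(J(-))` as a functor on groups. -/
def zjFunctor (Q : Type u) [Group Q] : Subgroup Q := centerThompsonAOf (⊤ : Subgroup Q)

theorem inducedFunctor_zj {G : Type u} [Group G] (P : Subgroup G) :
    inducedFunctor zjFunctor P = centerThompsonAOf P := by
  rw [inducedFunctor, zjFunctor, CfsgLib.PLocal.map_centerThompsonAOf P.subtype_injective,
    ← MonoidHom.range_eq_map, range_subtype]

theorem isCharPFunctor_zj [Fact p.Prime] : IsCharPFunctor.{u} p zjFunctor := by
  refine ⟨fun Q _ _ hQ hnt => ?_, fun Q R _ _ _ _ φ => ?_⟩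
  · exact CfsgLib.PLocal.centerThompsonAOf_ne_bot (hQ.to_subgroup ⊤) top_ne_bot
  · rw [zjFunctor, zjFunctor, CfsgLib.PLocal.map_centerThompsonAOf φ.injective,
      map_top_of_surjective φ.toMonoidHom φ.surjective]

/-- The induction step with only the quotients that occur. -/
theorem fusionStep {X : Type u} [Group X] [Finite X] [Fact p.Prime]
    {𝓦 : Set (∀ (Q : Type u) [Group Q], Subgroup Q)}
    (h𝓦 : ∀ W ∈ 𝓦, IsCharPFunctor.{u} p W)
    (hsub : ∀ H : Subgroup X, H ≠ ⊤ → FamilyControlsStrongFusionIn p (indFam 𝓦 ↥H) ⊤)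
    (hquotK : pPrimeCore p X ≠ ⊥ →
      FamilyControlsStrongFusionIn p (indFam 𝓦 (X ⧸ pPrimeCore p X)) ⊤)
    (hquotQ : pCore p X ≠ ⊥ → ∀ S : Subgroup X, IsSylowIn p S ⊤ →
      Subgroup.centralizer (pCore p X : Set X) ⊔ S = ⊤ →
      FamilyControlsStrongFusionIn p (indFam 𝓦 (X ⧸ pCore p X)) ⊤)
    (hcon : CfsgLib.ConjFunctor.IsConstrained p X →
      FamilyControlsStrongFusionIn p (indFam 𝓦 X) ⊤) :
    FamilyControlsStrongFusionIn p (indFam 𝓦 X) ⊤ := by
  by_cases hc : CfsgLib.ConjFunctor.IsConstrained p X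
  · exact hcon hc
  have h𝓦X := isConjugacyFunctor_induced_image (G := X) h𝓦
  obtain ⟨S, -, hS⟩ := exists_isSylowIn_ge (A := (⊥ : Subgroup X)) (H := ⊤) (p := p) bot_le
    IsPGroup.of_bot
  refine familyControlsStrongFusionIn_iff.mpr ⟨S, hS, ?_⟩
  have hprop : ∀ H : Subgroup X, H ≠ ⊤ → S ≤ H →
      FusControls (famIn (indFam 𝓦 X) ⊤ S) S H := fun H hH hSH =>
    (fusControls_of_subgroup h𝓦 (hS.of_le hSH le_top) (hsub H hH)).mono (famIn_le_top _ _ _)
  by_cases hQ : pCore p X = ⊥
  · refine familyControls_of_local hS h𝓦X fun T hT hne hext => ?_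
    have hN : Subgroup.normalizer (T : Set X) ≠ ⊤ := fun h => hne (by
      have : T.Normal := normalizer_eq_top_iff.mp h
      exact le_bot_iff.mp (hQ ▸ CfsgLib.PLocal.le_pCore (hS.2.1.to_le hT)))
    exact familyControlsStrongFusionIn_iff.mpr ⟨_, (extremal_iff hS.2.1).mp hext,
      fusControls_of_subgroup h𝓦 ((extremal_iff hS.2.1).mp hext) (hsub _ hN)⟩
  by_cases hK : pPrimeCore p X = ⊥
  swap
  · have hKc := CfsgLib.PLocal.coprime_card_pPrimeCore p X
    refine fusControls_of_quotient_disjoint hS (inf_pPrimeCore_eq_bot hS)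
      (le_of_mem_famIn h𝓦 hS.2.1) ?_
    exact (fusControls_of_family (isConjugacyFunctor_induced_image h𝓦) (hquotK hK)
      (isSylowIn_map hS _ (QuotientGroup.mk'_surjective _))).mono
        (nrm_map_mk'_le_map h𝓦 hKc hS.2.1)
  have hD := normalizer_dSub_ne_top hS hK hc
  by_cases hCS : Subgroup.centralizer (pCore p X : Set X) ⊔ S = ⊤
  swap
  · refine (fusControls_pair hS).bind ?_
    rintro H (rfl | rfl)
    · exact hprop _ hCS le_sup_right
    · exact hprop _ hD le_normalizer_dSub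
  have hSQ := not_sylow_le_pCore hS hK hc
  let f := QuotientGroup.mk' (pCore p X)
  have hinner : FusControls (famIn (indFam 𝓦 X) ⊤ S) S S :=
    hprop S (fun h => hD (eq_top_iff.mpr (h.ge.trans le_normalizer_dSub))) le_rfl
  have hq := fusControls_of_family (isConjugacyFunctor_induced_image h𝓦) (hquotQ hQ S hS hCS)
    (isSylowIn_map hS f (QuotientGroup.mk'_surjective _))
  let Ms : Set (Subgroup X) :=
    Subgroup.comap f '' famIn (indFam 𝓦 (X ⧸ pCore p X)) ⊤ (S.map f)
  have hMs : ∀ M ∈ Ms, S ≤ M ∧ M ≠ ⊤ := by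
    rintro _ ⟨_, ⟨_, ⟨W, hW, rfl⟩, rfl⟩, rfl⟩
    dsimp only
    rw [top_inf_eq]
    exact ⟨map_le_iff_le_comap.mp
      (le_normalizer_functor (isConjugacyFunctor_induced (h𝓦 W hW)) (hS.2.1.map f)),
      comap_normalizer_ne_top hSQ hS.2.1 (h𝓦 W hW)⟩
  have hall : FusControls (famIn (indFam 𝓦 X) ⊤ S ∪ Ms) S ⊤ := by
    refine fusControls_of_quotient_pCore hS hCS
      (hinner.mono fun M hM => ⟨M, Or.inl hM, le_rfl⟩) (hq.mono fun M hM => ?_)
    exact ⟨_, ⟨_, Or.inr ⟨M, hM, rfl⟩, rfl⟩,
      (map_comap_eq_self_of_surjective (QuotientGroup.mk'_surjective _) M).ge⟩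
  refine hall.bind ?_
  rintro H (hH | hH)
  · exact fun A g hg hA hgA => Fus.single hA hH hg (cjSet_subset_iff.mp hgA)
  · exact hprop H (hMs H hH).2 (hMs H hH).1

theorem card_quotient_lt {G : Type*} [Group G] [Finite G] (N : Subgroup G) (hN : N ≠ ⊥) :
    Nat.card (G ⧸ N) < Nat.card G := by
  rw [Subgroup.card_eq_card_quotient_mul_card_subgroup N]
  have h2 : 1 < Nat.card N := N.one_lt_card_iff_ne_bot.mpr hN
  exact lt_mul_of_one_lt_right Nat.card_pos h2

/-- `N(Z(J(S)))` controls strong fusion in a `p`-stable group, `p` odd. -/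
theorem familyControls_zj [Fact p.Prime] (hp : p ≠ 2) : ∀ (n : ℕ) (G : Type u) [Group G] [Finite G],
    Nat.card G = n → IsNormalizerPStable p G →
      FamilyControlsStrongFusionIn p (indFam {zjFunctor} G) ⊤ := by
  intro n
  induction n using Nat.strong_induction_on with
  | h n ih =>
  intro G _ _ hn hst
  have h𝓦 : ∀ V ∈ ({zjFunctor} : Set (∀ (Q : Type u) [Group Q], Subgroup Q)),
      IsCharPFunctor.{u} p V := by
    intro V hV; rw [Set.mem_singleton_iff] at hV; subst hV; exact isCharPFunctor_zj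
  refine fusionStep h𝓦 (fun H hH => ?_) (fun hK => ?_) (fun hQ S hS hCS => ?_) (fun hc => ?_)
  · exact ih _ (hn ▸ lt_of_le_of_ne (Subgroup.card_le_card_group H)
      fun h => hH (Subgroup.eq_top_of_card_eq H h)) H rfl (Cfsg.Agent.S3836.result hst H)
  · exact ih _ (hn ▸ card_quotient_lt _ hK) _ rfl
      (isNormalizerPStable_quotient_of_coprime hst _
        (CfsgLib.PLocal.coprime_card_pPrimeCore p G))
  · refine ih _ (hn ▸ card_quotient_lt _ hQ) _ rfl
      (isNormalizerPStable_quotient_of_centralized hp hst _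
        (CfsgLib.PLocal.isPGroup_pCore p G) fun k hk q hq => ?_)
    obtain ⟨c, hc, s, hs, e⟩ := exists_decomp_of_sup_eq_top hCS k
    suffices k ∈ Subgroup.centralizer (pCore p G : Set G) from
      (Subgroup.mem_centralizer_iff.mp this q hq).symm
    obtain ⟨a, ha⟩ := hS.2.1 ⟨s, hs⟩
    set C := Subgroup.centralizer (pCore p G : Set G) with hC
    have hsa : s ^ p ^ a = 1 := congrArg Subtype.val ha
    have hks : QuotientGroup.mk' C k = QuotientGroup.mk' C s := by
      rw [e, map_mul, show QuotientGroup.mk' C c = 1 from (QuotientGroup.eq_one_iff c).mpr hc,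
        one_mul]
    have h1 : orderOf (QuotientGroup.mk' C k) ∣ p ^ a :=
      orderOf_dvd_of_pow_eq_one (by rw [hks, ← map_pow, hsa, map_one])
    have h2 : orderOf (QuotientGroup.mk' C k) = 1 :=
      Nat.eq_one_of_dvd_coprimes (hk.pow_right a) (orderOf_map_dvd _ k) h1
    exact (QuotientGroup.eq_one_iff k).mp (orderOf_eq_one_iff.mp h2)
  · obtain ⟨S⟩ := (inferInstance : Nonempty (Sylow p G))
    refine familyControlsStrongFusionIn_iff.mpr ⟨_, isSylowIn_top S, fun A g _ hA hgA => ?_⟩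
    have hZ : (inducedFunctor zjFunctor (S : Subgroup G)).Characteristic := by
      rw [inducedFunctor_zj]
      exact CfsgLib.PLocal.centerThompsonAOf_characteristic hp hc
        (fun V hVn hV => @isPStableOn_of_normalizerPStable _ _ p hst V hVn hV) S
    refine Fus.single hA (M := ⊤ ⊓ Subgroup.normalizer
      ((inducedFunctor zjFunctor (S : Subgroup G) : Subgroup G) : Set G))
      ⟨_, ⟨zjFunctor, rfl, rfl⟩, rfl⟩ ?_ (cjSet_subset_iff.mp hgA)
    refine ⟨trivial, ?_⟩
    have := @Subgroup.normal_of_characteristic G _ _ hZ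
    exact (Subgroup.normalizer_eq_top_iff.mpr this).symm ▸ Subgroup.mem_top g

/-- `N(Z(J(S)))` controls strong fusion in a `p`-stable group, `p` odd. -/
theorem exists_mem_normalizer_zj [Fact p.Prime] (hp : p ≠ 2) {G : Type u} [Group G] [Finite G]
    (hst : IsNormalizerPStable p G) (S : Sylow p G) {A : Set G} {g : G}
    (hA : A ⊆ (S : Subgroup G)) (hgA : ∀ a ∈ A, g * a * g⁻¹ ∈ (S : Subgroup G)) :
    ∃ x ∈ normalizer (centerThompsonAOf (S : Subgroup G) : Set G),
      ∀ a ∈ A, x * a * x⁻¹ = g * a * g⁻¹ := by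
  have h := familyControls_zj hp _ G rfl hst
  rw [show indFam {zjFunctor} G = {inducedFunctor zjFunctor} from Set.image_singleton] at h
  have hW : ∀ W ∈ ({inducedFunctor zjFunctor} : Set (Subgroup G → Subgroup G)),
      IsConjugacyFunctor p W := by
    intro W hW; rw [Set.mem_singleton_iff] at hW; subst hW
    exact isConjugacyFunctor_induced isCharPFunctor_zj
  have hc := fusControls_of_family hW h (isSylowIn_top S)
  obtain ⟨x, hx, hxA⟩ := (famIn_singleton (inducedFunctor zjFunctor) ⊤ (S : Subgroup G) ▸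
    hc A g trivial hA (cjSet_subset_iff.mpr hgA)).exists_mem_of_singleton
  exact ⟨x, inducedFunctor_zj (S : Subgroup G) ▸ hx.2, hxA⟩

end CfsgLib.FusionPStable
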