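import Cfsg.Prelude.Def_FusionSystem
import Cfsg.Prelude.Def_LocalEven

/-!
# Tools for p-stability of fusion systems

* `mem_pCore_map_surjective`, `pCore_normal`, `pCore_isPGroup`: basic facts on `pCore`.
* `InCore p A χ`: `χ` lies in `O_p(A)` for `A ≤ Aut X`; transport and restriction.
* `QuadAut χ`: the quadratic condition used in the p-stability statements; transport.
* `autGroup_groupFusion`: `Aut_F(Q) = N_G(Q)/C_G(Q)` for the fusion system of a group.
-/

set_option autoImplicit false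

namespace CfsgLib.FusionPStable

open Subgroup
open scoped commutatorElement

section Core

variable {p : ℕ} {G H : Type*} [Group G] [Group H]

theorem pCore_map_le (f : G →* H) (hf : Function.Surjective f) :
    (Cfsg.pCore p G).map f ≤ Cfsg.pCore p H := by
  rw [Subgroup.map_le_iff_le_comap]
  refine sSup_le fun N hN => ?_
  rw [← Subgroup.map_le_iff_le_comap]
  exact le_sSup (⟨hN.1.map f hf, hN.2.map f⟩ : (N.map f).Normal ∧ IsPGroup p ↥(N.map f))

theorem mem_pCore_map_surjective (f : G →* H) (hf : Function.Surjective f) {x : G}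
    (hx : x ∈ Cfsg.pCore p G) : f x ∈ Cfsg.pCore p H :=
  pCore_map_le f hf ⟨x, hx, rfl⟩

theorem le_pCore {N : Subgroup G} (hN : N.Normal) (hp : IsPGroup p N) : N ≤ Cfsg.pCore p G :=
  le_sSup (show N ∈ {N : Subgroup G | N.Normal ∧ IsPGroup p N} from ⟨hN, hp⟩)

theorem pCore_normal : (Cfsg.pCore p G).Normal := by
  constructor
  intro n hn g
  have h := mem_pCore_map_surjective (p := p) (MulAut.conj g).toMonoidHom
    (MulAut.conj g).surjective hn
  simpa using h

theorem pCore_le_sylow (P : Sylow p G) : Cfsg.pCore p G ≤ (P : Subgroup G) := by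
  refine sSup_le fun N hN => ?_
  have := hN.1
  have h : IsPGroup p (N ⊔ (P : Subgroup G) : Subgroup G) :=
    hN.2.to_sup_of_normal_left P.isPGroup'
  exact le_trans le_sup_left (le_of_eq (P.is_maximal' h le_sup_right))

theorem pCore_isPGroup : IsPGroup p (Cfsg.pCore p G) := by
  obtain ⟨P, -⟩ := (IsPGroup.of_bot (p := p) (G := G)).exists_le_sylow
  exact P.isPGroup'.to_le (pCore_le_sylow P)

theorem le_pCore_of_subgroup {A B : Subgroup G} (hBA : B ≤ A) {x : G} (hxB : x ∈ B)
    (hx : x ∈ (Cfsg.pCore p A).map A.subtype) : x ∈ (Cfsg.pCore p B).map B.subtype := by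
  obtain ⟨a, ha, rfl⟩ := hx
  have hn : ((Cfsg.pCore p A).comap (Subgroup.inclusion hBA)).Normal :=
    (pCore_normal (p := p) (G := A)).comap _
  have hp : IsPGroup p ((Cfsg.pCore p A).comap (Subgroup.inclusion hBA)) :=
    (pCore_isPGroup (p := p) (G := A)).comap_of_injective _ (Subgroup.inclusion_injective hBA)
  exact ⟨⟨_, hxB⟩, le_pCore hn hp (Subgroup.mem_comap.mpr ha), rfl⟩

end Core

section Aut

variable {X Y : Type*} [Group X] [Group Y] {p : ℕ}

/-- `χ` lies in `O_p(A)`. -/
def InCore (p : ℕ) (A : Subgroup (MulAut X)) (χ : MulAut X) : Prop :=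
  χ ∈ ((Cfsg.pCore p A).map A.subtype : Subgroup (MulAut X))

theorem InCore.mem {A : Subgroup (MulAut X)} {χ : MulAut X} (h : InCore p A χ) : χ ∈ A := by
  obtain ⟨a, -, rfl⟩ := h
  exact a.2

/-- Transport of `O_p` along an isomorphism of the underlying groups. -/
theorem InCore.congr {A : Subgroup (MulAut X)} {B : Subgroup (MulAut Y)} (e : X ≃* Y)
    (hAB : A.map (MulAut.congr e).toMonoidHom = B) {χ : MulAut X} (h : InCore p A χ) :
    InCore p B (MulAut.congr e χ) := by
  subst hAB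
  obtain ⟨a, ha, rfl⟩ := h
  exact ⟨_, mem_pCore_map_surjective ((MulAut.congr e).toMonoidHom.subgroupMap A)
    (MonoidHom.subgroupMap_surjective _ A) ha, rfl⟩

theorem congr_symm_congr (e : X ≃* Y) (χ : MulAut X) :
    MulAut.congr e.symm (MulAut.congr e χ) = χ := by
  ext a; simp

theorem congr_congr_symm (e : X ≃* Y) (χ : MulAut Y) :
    MulAut.congr e (MulAut.congr e.symm χ) = χ := by
  ext a; simp

/-- The quadratic condition on an automorphism. -/
def QuadAut (χ : MulAut X) : Prop :=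
  ∀ a : X, (χ a⁻¹) * a * (χ a⁻¹) * (χ (χ a)) = 1

theorem quadAut_iff {χ : MulAut X} : QuadAut χ ↔ ∀ a : X, χ (a⁻¹ * χ a) = a⁻¹ * χ a := by
  refine forall_congr' fun a => ?_
  rw [map_mul, map_inv]
  constructor <;> intro h
  · have h2 : (χ a)⁻¹ * a * ((χ a)⁻¹ * χ (χ a)) = 1 := by rw [← h]; group
    have h3 := eq_inv_of_mul_eq_one_right h2
    rw [h3]; group
  · calc (χ a)⁻¹ * a * (χ a)⁻¹ * χ (χ a) = (χ a)⁻¹ * a * ((χ a)⁻¹ * χ (χ a)) := by group
      _ = 1 := by rw [h]; group

theorem QuadAut.congr (e : X ≃* Y) {χ : MulAut X} (h : QuadAut χ) :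
    QuadAut (MulAut.congr e χ) := by
  intro b
  have := congrArg e (h (e.symm b))
  simpa using this

end Aut

section GroupFusion

variable {G : Type*} [Group G]

theorem normalizerMonoidHom_coe (Q : Subgroup G) (g : ↥(normalizer (Q : Set G))) (x : Q) :
    ((Q.normalizerMonoidHom g x : Q) : G) = (g : G) * (x : G) * (g : G)⁻¹ := rfl

/-- `Aut_F(Q) = N_G(Q)/C_G(Q)` for `F` the fusion system of a group. -/
theorem autGroup_groupFusion [Finite G] {P Q : Subgroup G} (hQP : Q ≤ P) :
    (Cfsg.groupFusionSystem P).autGroup Q = Q.normalizerMonoidHom.range := by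
  apply le_antisymm
  · refine (Subgroup.closure_le _).2 ?_
    rintro α ⟨-, -, g, hg⟩
    have hgN : g ∈ normalizer (Q : Set G) := by
      have h : (Q : Set G).Finite := Set.toFinite _
      rw [mem_normalizer_iff]
      intro x
      constructor
      · intro hx
        have h2 : ((α ⟨x, hx⟩ : Q) : G) = g * x * g⁻¹ := hg ⟨x, hx⟩
        rw [← h2]; exact (α ⟨x, hx⟩).2
      · intro hx
        obtain ⟨y, hy⟩ := α.surjective ⟨g * x * g⁻¹, hx⟩
        have h2 : ((α y : Q) : G) = g * y * g⁻¹ := hg y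
        rw [hy] at h2
        simp only [mul_left_inj, mul_right_inj] at h2
        rw [h2]; exact y.2
    exact ⟨⟨g, hgN⟩, by ext x; rw [normalizerMonoidHom_coe]; exact (hg x).symm⟩
  · rintro _ ⟨g, rfl⟩
    exact Subgroup.subset_closure ⟨hQP, fun x => hQP (Q.normalizerMonoidHom g x).2, g, fun x => rfl⟩

/-- Quadratic action in commutator form. -/
theorem quadAut_normalizer_iff {Q : Subgroup G} (g : ↥(normalizer (Q : Set G))) :
    QuadAut (Q.normalizerMonoidHom g) ↔
      ⁅⁅Q, Subgroup.zpowers (g : G)⁆, Subgroup.zpowers (g : G)⁆ = ⊥ := by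
  rw [quadAut_iff, commutator_eq_bot_iff_le_centralizer]
  constructor
  · intro h
    rw [Subgroup.commutator_le]
    intro q hq z hz
    obtain ⟨k, rfl⟩ := mem_zpowers_iff.mp hz
    have key : ∀ a ∈ Q, Commute (g : G) (a⁻¹ * ((g : G) * a * (g : G)⁻¹)) := by
      intro a ha
      have h2 := congrArg Subtype.val (h ⟨a, ha⟩)
      rw [normalizerMonoidHom_coe] at h2
      have h3 : (g : G) * (a⁻¹ * ((g : G) * a * (g : G)⁻¹)) * (g : G)⁻¹
          = a⁻¹ * ((g : G) * a * (g : G)⁻¹) := h2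
      exact mul_inv_eq_iff_eq_mul.mp h3
    have hmem : ∀ (k : ℤ), ∀ a ∈ Q, (g : G) ^ k * a * ((g : G) ^ k)⁻¹ ∈ Q := fun k a ha =>
      (mem_normalizer_iff.mp (zpow_mem g.2 k) a).mp ha
    have key2 : ∀ (k : ℤ), ∀ a ∈ Q,
        Commute (g : G) (a⁻¹ * ((g : G) ^ k * a * ((g : G) ^ k)⁻¹)) := by
      intro k
      induction k using Int.induction_on with
      | zero => intro a _; simp
      | succ n ih =>
        intro a ha
        have h4 := (ih a ha).mul_right (key _ (hmem n a ha))
        have e : a⁻¹ * ((g : G) ^ ((n : ℤ) + 1) * a * ((g : G) ^ ((n : ℤ) + 1))⁻¹) =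
            a⁻¹ * ((g : G) ^ (n : ℤ) * a * ((g : G) ^ (n : ℤ))⁻¹) *
              (((g : G) ^ (n : ℤ) * a * ((g : G) ^ (n : ℤ))⁻¹)⁻¹ *
                ((g : G) * ((g : G) ^ (n : ℤ) * a * ((g : G) ^ (n : ℤ))⁻¹) * (g : G)⁻¹)) := by
          group
        rw [e]; exact h4
      | pred n ih =>
        intro a ha
        have h4 := (ih a ha).mul_right (key _ (hmem (-n - 1) a ha)).inv_right
        have e : a⁻¹ * ((g : G) ^ (-(n : ℤ) - 1) * a * ((g : G) ^ (-(n : ℤ) - 1))⁻¹) =
            a⁻¹ * ((g : G) ^ (-(n : ℤ)) * a * ((g : G) ^ (-(n : ℤ)))⁻¹) *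
              (((g : G) ^ (-(n : ℤ) - 1) * a * ((g : G) ^ (-(n : ℤ) - 1))⁻¹)⁻¹ *
                ((g : G) * ((g : G) ^ (-(n : ℤ) - 1) * a * ((g : G) ^ (-(n : ℤ) - 1))⁻¹) *
                  (g : G)⁻¹))⁻¹ := by
          group
        rw [e]; exact h4
    rw [mem_centralizer_iff]
    intro w hw
    obtain ⟨j, rfl⟩ := mem_zpowers_iff.mp hw
    have h5 : Commute (g : G) ⁅q, (g : G) ^ k⁆ := by
      convert key2 k q⁻¹ (inv_mem hq) using 1
      rw [commutatorElement_def]; group
    exact (h5.zpow_left j).eq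
  · intro h a
    apply Subtype.ext
    rw [normalizerMonoidHom_coe]
    have h1 : ((a⁻¹ * Q.normalizerMonoidHom g a : Q) : G) = ⁅(a : G)⁻¹, (g : G)⁆ := by
      rw [Subgroup.coe_mul, normalizerMonoidHom_coe, commutatorElement_def, Subgroup.coe_inv]; group
    rw [h1]
    have h2 := h (Subgroup.commutator_mem_commutator (inv_mem a.2) (mem_zpowers (g : G)))
    rw [mem_centralizer_iff] at h2
    rw [h2 g (mem_zpowers _), mul_inv_cancel_right]

end GroupFusion

end CfsgLib.FusionPStable
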