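import Cfsg.Agent.Fusion.Basic

/-!
# Existence of the normaliser system of a subgroup

`exists_normalizerSystem`: for `Q ≤ S` (with `S` finite or not) there is a system `N` over
`N_S(Q)` whose maps are `F.normalizerHom Q`.
-/

set_option autoImplicit false

namespace CfsgLib.FusionPStable

open Cfsg Cfsg.FusionSystem CfsgLib.Fusion

variable {Ω : Type*} [Group Ω] {S : Subgroup Ω}

theorem mem_normalizerHom_iff {F : FusionSystem S} {Q P : Subgroup Ω} {φ : P →* Ω} :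
    φ ∈ F.normalizerHom Q P ↔ φ ∈ F.Hom P ∧ P ≤ normalizerIn S Q ∧
      (∀ x : P, φ x ∈ normalizerIn S Q) ∧ ∃ ψ ∈ F.Hom (P ⊔ Q),
        (∀ x : P, ψ (Subgroup.inclusion le_sup_left x) = φ x) ∧
        (Q.subgroupOf (P ⊔ Q)).map ψ = Q :=
  Iff.rfl

/-- The normaliser system of `Q ≤ S`. -/
def normalizerSystemOf (F : FusionSystem S) (Q : Subgroup Ω) (hQ : Q ≤ S) :
    FusionSystem (normalizerIn S Q) where
  Hom := F.normalizerHom Q
  le_of_mem h := ⟨h.2.1, h.2.2.1⟩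
  injective_of_mem h := F.injective_of_mem h.1
  conj_mem := by
    intro P g hP hg
    have hPS : P ≤ S := hP.trans inf_le_left
    refine ⟨F.conj_mem hPS hg.1, hP, fun x => ?_, conjHom (P ⊔ Q) g,
      F.conj_mem (sup_le hPS hQ) hg.1, fun x => rfl, ?_⟩
    · exact mul_mem (mul_mem hg (hP x.2)) (inv_mem hg)
    · ext y
      constructor
      · rintro ⟨x, hx, rfl⟩
        exact (Subgroup.mem_normalizer_iff.mp hg.2 _).mp hx
      · intro hy
        have h1 : g⁻¹ * y * g ∈ Q := by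
          have := (Subgroup.mem_normalizer_iff.mp (inv_mem hg.2) y).mp hy
          simpa using this
        refine ⟨⟨_, Subgroup.mem_sup_right h1⟩, h1, ?_⟩
        show g * (g⁻¹ * y * g) * g⁻¹ = y
        group
  comp_mem := by
    rintro P R φ ψ ⟨hφ, hP, hφN, a, ha, haP, haQ⟩ ⟨hψ, hR, hψN, b, hb, hbR, hbQ⟩ h
    have hab : ∀ x : ↥(P ⊔ Q), a x ∈ R ⊔ Q := by
      intro x
      have h1 : a.range ≤ R ⊔ Q := by
        rw [MonoidHom.range_eq_map]
        have h2 : (⊤ : Subgroup ↥(P ⊔ Q)) =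
            P.subgroupOf (P ⊔ Q) ⊔ Q.subgroupOf (P ⊔ Q) := by
          rw [← Subgroup.subgroupOf_sup le_sup_left le_sup_right, Subgroup.subgroupOf_self]
        rw [h2, Subgroup.map_sup, haQ]
        refine sup_le ?_ le_sup_right
        rintro _ ⟨x, hx, rfl⟩
        rw [show x = Subgroup.inclusion le_sup_left ⟨(x : Ω), hx⟩ from Subtype.ext rfl, haP]
        exact Subgroup.mem_sup_left (h _)
      exact h1 ⟨x, rfl⟩
    refine ⟨F.comp_mem hφ hψ h, hP, fun x => hψN _, _, F.comp_mem ha hb hab, fun x => ?_, ?_⟩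
    · simp only [MonoidHom.comp_apply]
      rw [← hbR]
      congr 1
      exact Subtype.ext (haP x)
    · ext y
      constructor
      · rintro ⟨x, hx, rfl⟩
        have h3 : a x ∈ Q := haQ.le (Subgroup.mem_map_of_mem a hx)
        exact hbQ.le ⟨⟨a x, Subgroup.mem_sup_right h3⟩, h3, rfl⟩
      · intro hy
        rw [← hbQ] at hy
        obtain ⟨w, hw, rfl⟩ := hy
        have hw' : (w : Ω) ∈ (Q.subgroupOf (P ⊔ Q)).map a := haQ.symm ▸ hw
        obtain ⟨x, hx, hxw⟩ := hw'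
        exact ⟨x, hx, congrArg b (Subtype.ext hxw)⟩
  inv_mem := by
    rintro P φ ⟨hφ, hP, hφN, a, ha, haP, haQ⟩
    obtain ⟨e, he, hev⟩ := exists_iso_range ha
    have h1 : φ.range ⊔ Q ≤ a.range := sup_le
      (by rintro _ ⟨x, rfl⟩; exact ⟨_, haP x⟩)
      (fun y hy => by
        rw [← haQ] at hy
        obtain ⟨x, -, rfl⟩ := hy
        exact ⟨x, rfl⟩)
    obtain ⟨ψ, hψ, hψv⟩ := F.inv_mem hφ
    have key : ∀ (x : ↥(P ⊔ Q)) (hx : a x ∈ φ.range ⊔ Q),
        ((e.symm ⟨a x, h1 hx⟩ : ↥(P ⊔ Q)) : Ω) = x := fun x hx =>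
      congrArg Subtype.val ((MulEquiv.symm_apply_eq e).mpr (Subtype.ext (hev x).symm))
    refine ⟨ψ, ⟨hψ, ?_, ?_, _, restrict_mem (he.symm) h1, ?_, ?_⟩, hψv⟩
    · rintro _ ⟨x, rfl⟩
      exact hφN x
    · rintro ⟨_, x, rfl⟩
      rw [hψv]
      exact hP x.2
    · rintro ⟨_, x, rfl⟩
      rw [hψv]
      have h2 : a (Subgroup.inclusion le_sup_left x) ∈ φ.range ⊔ Q :=
        Subgroup.mem_sup_left ⟨x, (haP x).symm⟩
      refine Eq.trans ?_ (key _ h2)
      exact congrArg (fun z => ((e.symm z : ↥(P ⊔ Q)) : Ω)) (Subtype.ext (haP x).symm)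
    · ext y
      constructor
      · rintro ⟨⟨z, hz⟩, hzQ, rfl⟩
        have hz' : z ∈ (Q.subgroupOf (P ⊔ Q)).map a := haQ.symm ▸ hzQ
        obtain ⟨x, hx, rfl⟩ := hz'
        simp only [restrictHom_apply, MonoidHom.comp_apply, Subgroup.coe_subtype,
          MulEquiv.coe_toMonoidHom]
        rw [key x hz]
        exact hx
      · intro hy
        have h2 : a ⟨y, Subgroup.mem_sup_right hy⟩ ∈ Q := haQ.le (Subgroup.mem_map_of_mem a
          (show (⟨y, Subgroup.mem_sup_right hy⟩ : ↥(P ⊔ Q)) ∈ Q.subgroupOf (P ⊔ Q) from hy))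
        exact ⟨⟨_, Subgroup.mem_sup_right h2⟩, h2, key ⟨y, Subgroup.mem_sup_right hy⟩ (Subgroup.mem_sup_right h2)⟩

theorem isNormalizerSystem_normalizerSystemOf (F : FusionSystem S) (Q : Subgroup Ω) (hQ : Q ≤ S) :
    F.IsNormalizerSystem Q (normalizerSystemOf F Q hQ) := fun _ => rfl

theorem exists_normalizerSystem (F : FusionSystem S) {Q : Subgroup Ω} (hQ : Q ≤ S) :
    ∃ N : FusionSystem (normalizerIn S Q), F.IsNormalizerSystem Q N :=
  ⟨_, isNormalizerSystem_normalizerSystemOf F Q hQ⟩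

/-- An automorphism of `P` with an extension to `P ⊔ Q` preserving `Q` is in the normaliser
system. -/
theorem mem_autGroup_normalizerSystem {F : FusionSystem S} {Q P : Subgroup Ω}
    {N : FusionSystem (normalizerIn S Q)} (hN : F.IsNormalizerSystem Q N)
    (hP : P ≤ normalizerIn S Q) {α : MulAut P} (hα : α ∈ F.autGroup P) {ψ : ↥(P ⊔ Q) →* Ω}
    (hψ : ψ ∈ F.Hom (P ⊔ Q)) (h : ∀ x : P, ψ (Subgroup.inclusion le_sup_left x) = (α x : Ω))
    (hQ : (Q.subgroupOf (P ⊔ Q)).map ψ = Q) : α ∈ N.autGroup P := by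
  refine Subgroup.subset_closure ?_
  show P.subtype.comp α.toMonoidHom ∈ N.Hom P
  rw [hN P]
  exact ⟨(mem_autGroup_iff (hP.trans inf_le_left)).mp hα, hP, fun x => hP (α x).2, ψ, hψ, h, hQ⟩

end CfsgLib.FusionPStable
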