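import Cfsg.Agent.FusionPStable.ZJControl
import Cfsg.Agent.Techniques.ControlNormal
import Cfsg.Agent.FusionFactor.Elementary
import Cfsg.Agent.Fusion.Realized

/-!
# The fusion system of a `p`-stable group is constrained

`p` odd and `G` `p`-stable in the normalizer form: the largest subgroup normal in `F_S(G)` is
centric. In `C = C(Q)` for such a subgroup `Q` the `p`-core `Z₀` is central, `C/Z₀` is again
`p`-stable, and the preimage of `Z(J)` of its Sylow subgroup would give a larger normal subgroup.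
-/

set_option autoImplicit false

namespace CfsgLib.FusionPStable

open Cfsg Subgroup CfsgLib.ConjFunctor

universe u

variable {G : Type u} [Group G] {p : ℕ}

theorem isNormal_groupFusion_of_control {S W : Subgroup G} (hWS : W ≤ S)
    (h : ∀ A : Subgroup G, A ≤ S → ∀ g : G, (∀ a ∈ A, g * a * g⁻¹ ∈ S) →
      ∃ x ∈ normalizer (W : Set G), ∀ a ∈ A, x * a * x⁻¹ = g * a * g⁻¹) :
    (groupFusionSystem S).IsNormal W := by
  refine ⟨hWS, ?_⟩
  rintro A φ ⟨hA, hφ, g, hg⟩
  obtain ⟨x, hxN, hx⟩ := h A hA g fun a ha => hg ⟨a, ha⟩ ▸ hφ ⟨a, ha⟩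
  have hle : A ⊔ W ≤ S.comap (MulAut.conj x).toMonoidHom :=
    sup_le (fun a ha => by
        show x * a * x⁻¹ ∈ S
        rw [hx a ha, ← hg ⟨a, ha⟩]; exact hφ ⟨a, ha⟩)
      (fun z hz => hWS ((mem_normalizer_iff.mp hxN z).mp hz))
  refine ⟨(MulAut.conj x).toMonoidHom.comp (A ⊔ W).subtype,
    ⟨sup_le hA hWS, fun y => hle y.2, x, fun y => rfl⟩, fun y => ?_, ?_⟩
  · exact (hx y y.2).trans (hg y).symm
  · rw [← Subgroup.map_map, Subgroup.subgroupOf_map_subtype, inf_eq_left.mpr le_sup_right]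
    exact mem_normalizer_iff_map_conj_eq.mp hxN

theorem exists_mem_normalizer_of_isNormal {S Q : Subgroup G}
    (hQ : (groupFusionSystem S).IsNormal Q) {A : Subgroup G} (hA : A ≤ S) {g : G}
    (hg : ∀ a ∈ A, g * a * g⁻¹ ∈ S) :
    ∃ x ∈ normalizer (Q : Set G), ∀ a ∈ A, x * a * x⁻¹ = g * a * g⁻¹ := by
  obtain ⟨ψ, ⟨hle, -, y, hy⟩, hψA, hψQ⟩ :=
    hQ.2 A (conjHom A g) ⟨hA, fun a => hg a a.2, g, fun a => rfl⟩
  refine ⟨y, ?_, fun a ha => ((hy _).symm.trans (hψA ⟨a, ha⟩))⟩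
  rw [mem_normalizer_iff_map_conj_eq]
  refine Eq.trans ?_ hψQ
  ext z
  constructor
  · rintro ⟨q, hq, rfl⟩
    exact ⟨⟨q, mem_sup_right hq⟩, hq, hy _⟩
  · rintro ⟨q, hq, rfl⟩
    exact ⟨q, hq, (hy _).symm⟩

/-- With `Q` normal and containing every subgroup whose normalizer controls fusion, `C_S(Q) ≤ Q`. -/
theorem centralizer_le_of_maximal [Finite G] [Fact p.Prime] (hp : p ≠ 2)
    (hst : IsNormalizerPStable p G) (S : Sylow p G) (Q : Subgroup G) [Q.Normal]
    (hQp : IsPGroup p Q)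
    (hmax : ∀ W : Subgroup G, W ≤ (S : Subgroup G) →
      (∀ A : Subgroup G, A ≤ (S : Subgroup G) → ∀ g : G,
        (∀ a ∈ A, g * a * g⁻¹ ∈ (S : Subgroup G)) →
        ∃ x ∈ normalizer (W : Set G), ∀ a ∈ A, x * a * x⁻¹ = g * a * g⁻¹) → W ≤ Q) :
    (S : Subgroup G) ⊓ centralizer (Q : Set G) ≤ Q := by
  set C := centralizer (Q : Set G) with hC
  set R₀ : Subgroup C := (S : Subgroup G).subgroupOf C with hR₀
  have hR₀S : IsSylowIn p R₀ ⊤ := by
    refine ⟨le_top, S.isPGroup'.comap_subtype, ?_⟩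
    rw [relIndex_top_right]
    have h := ((isSylowIn_top S).inf_of_normal (N := C) le_top
      (by rw [normalizer_eq_top C])).2.2
    rw [inf_relIndex_right] at h
    exact h
  set Z₀ := pCore p C with hZ₀
  have hZ₀Q : Z₀.map C.subtype ≤ Q := by
    have hn : (Z₀.map C.subtype).Normal := CfsgLib.PLocal.normal_map_subtype C Z₀
    refine hmax _ ((CfsgLib.PLocal.le_pCore (hN := hn)
      ((CfsgLib.PLocal.isPGroup_pCore p C).map _)).trans (CfsgLib.PLocal.pCore_le_sylow S)) ?_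
    exact fun A _ g _ =>
      ⟨g, (normalizer_eq_top_iff.mpr hn).ge (mem_top g), fun _ _ => rfl⟩
  by_contra hnle
  have hcZ : ∀ c : C, c ∈ centralizer (Z₀ : Set C) := fun c => by
    rw [mem_centralizer_iff]
    intro z hz
    exact Subtype.ext (mem_centralizer_iff.mp c.2 (z : G) (hZ₀Q (mem_map_of_mem _ hz)))
  set f := QuotientGroup.mk' Z₀ with hf
  have hfs : Function.Surjective f := QuotientGroup.mk'_surjective Z₀
  have hst' : IsNormalizerPStable p (C ⧸ Z₀) :=
    isNormalizerPStable_quotient_of_centralized hp (Cfsg.Agent.S3836.result hst C) Z₀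
      (CfsgLib.PLocal.isPGroup_pCore p C)
      fun k _ q hq => (mem_centralizer_iff.mp (hcZ k) q hq).symm
  have hRS : IsSylowIn p (R₀.map f) ⊤ := isSylowIn_map hR₀S f hfs
  let SR : Sylow p (C ⧸ Z₀) := hRS.toSylowTop
  have hSR : (SR : Subgroup (C ⧸ Z₀)) = R₀.map f := rfl
  have hZ₀R : Z₀ ≤ R₀ := pCore_le_isSylowIn hR₀S
  have hRne : R₀.map f ≠ ⊥ := by
    intro h
    rw [Subgroup.map_eq_bot_iff, hf, QuotientGroup.ker_mk'] at h
    refine hnle fun x hx => hZ₀Q ⟨⟨x, hx.2⟩, h hx.1, rfl⟩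
  set Wb := centerThompsonAOf (R₀.map f) with hWb
  have hWb0 : Wb ≠ ⊥ := CfsgLib.PLocal.centerThompsonAOf_ne_bot (hRS.2.1) hRne
  set W₀ := Wb.comap f with hW₀
  have hW₀R : W₀ ≤ R₀ := by
    refine (comap_mono (CfsgLib.PLocal.centerThompsonAOf_le _)).trans ?_
    rw [comap_map_eq, hf, QuotientGroup.ker_mk']
    exact sup_le le_rfl hZ₀R
  have hNW : normalizer (W₀ : Set C) = (normalizer (Wb : Set (C ⧸ Z₀))).comap f :=
    (comap_normalizer_eq_of_surjective Wb hfs).symm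
  have hR₀N : R₀ ≤ normalizer (W₀ : Set C) := by
    rw [hNW, ← map_le_iff_le_comap]
    exact le_normalizer.trans (CfsgLib.PLocal.normalizer_le_normalizer_centerThompsonAOf _)
  have hctrlC : FusControls {normalizer (W₀ : Set C)} R₀ ⊤ := by
    refine fusControls_of_quotient_pCore hR₀S ?_ ?_ ?_
    · rw [eq_top_iff]
      exact fun c _ => mem_sup_left (hcZ c)
    · exact fun A g hg hA hgA =>
        Fus.single hA rfl (hR₀N hg) (cjSet_subset_iff.mp hgA)
    · intro A g _ hA hgA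
      obtain ⟨x, hx, hxA⟩ := exists_mem_normalizer_zj hp hst' SR (A := A) (g := g) hA
        (cjSet_subset_iff.mp hgA)
      refine (Fus.single (M := (normalizer (W₀ : Set C)).map f) hA (show _ ∈ Subgroup.map f ''
        ({normalizer (W₀ : Set C)} : Set (Subgroup C)) from ⟨_, rfl, rfl⟩) (x := x) ?_
        fun a ha => ?_).congr' hxA
      · rw [hNW, map_comap_eq_self_of_surjective hfs]
        exact hx
      · rw [hxA a ha]; exact hgA ⟨a, ha, rfl⟩
  -- lift to `G`
  set V := W₀.map C.subtype with hV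
  have hVR : V ≤ (S : Subgroup G) ⊓ C := by
    rintro _ ⟨w, hw, rfl⟩
    exact ⟨hW₀R hw, w.2⟩
  set W : Subgroup G := Subgroup.closure
      (⋃ x ∈ normalizer (((S : Subgroup G) ⊓ C : Subgroup G) : Set G),
        ((V.map (MulAut.conj x).toMonoidHom : Subgroup G) : Set G)) with hW
  have hVW : V ≤ W := fun v hv =>
    subset_closure (Set.mem_biUnion (one_mem _) ⟨v, hv, by simp⟩)
  have hWS : W ≤ (S : Subgroup G) := by
    rw [hW, Subgroup.closure_le]
    refine Set.iUnion₂_subset fun x hx => ?_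
    rintro _ ⟨v, hv, rfl⟩
    exact ((mem_normalizer_iff.mp hx v).mp (hVR hv)).1
  have hctrlG : ∀ A : Subgroup G, A ≤ (S : Subgroup G) ⊓ C → ∀ n ∈ C,
      A.map (MulAut.conj n).toMonoidHom ≤ (S : Subgroup G) ⊓ C →
        ∃ h ∈ C ⊓ normalizer (V : Set G), ∃ c ∈ C ⊓ centralizer (A : Set G), n = h * c := by
    intro A hA n hn hnA
    obtain ⟨x, hx, hxA⟩ := (hctrlC ((A.subgroupOf C : Subgroup C) : Set C) ⟨n, hn⟩ trivial
      (fun a ha => (hA ha).1) (cjSet_subset_iff.mpr fun a ha =>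
        (hnA ⟨(a : G), ha, rfl⟩).1)).exists_mem_of_singleton
    have hxV : (x : G) ∈ normalizer (V : Set G) :=
      Subgroup.le_normalizer_map C.subtype (mem_map_of_mem _ hx)
    refine ⟨x, ⟨x.2, hxV⟩, (x : G)⁻¹ * n, ⟨C.mul_mem (C.inv_mem x.2) hn, ?_⟩, by group⟩
    refine mem_centralizer_iff.mpr fun a ha => ?_
    have h1 : (x : G) * a * (x : G)⁻¹ = n * a * n⁻¹ :=
      congrArg Subtype.val (hxA ⟨a, (hA ha).2⟩ ha)
    calc a * ((x : G)⁻¹ * n) = (x : G)⁻¹ * ((x : G) * a * (x : G)⁻¹) * n := by group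
      _ = (x : G)⁻¹ * (n * a * n⁻¹) * n := by rw [h1]
      _ = (x : G)⁻¹ * n * a := by group
  have hWQ : W ≤ Q := by
    refine hmax W hWS fun A hA g hg => ?_
    obtain ⟨h, hh, c, hc, rfl⟩ := CfsgLib.Techniques.control_of_normal C S V hVR hctrlG W hW A hA g
      (by rintro _ ⟨a, ha, rfl⟩; exact hg a ha)
    refine ⟨h, hh, fun a ha => ?_⟩
    rw [show h * c * a * (h * c)⁻¹ = h * (c * a * c⁻¹) * h⁻¹ by group,
      ← mem_centralizer_iff.mp hc a ha, mul_inv_cancel_right]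
  have hW₀Z : W₀ ≤ Z₀ := by
    have hn : (Q.subgroupOf C).Normal := inferInstance
    exact fun w hw => CfsgLib.PLocal.le_pCore (hN := hn) hQp.comap_subtype
      (hWQ (hVW (mem_map_of_mem C.subtype hw)))
  refine hWb0 (eq_bot_iff.mpr ?_)
  rw [← map_comap_eq_self_of_surjective hfs Wb]
  refine (map_mono hW₀Z).trans ?_
  rw [hf, QuotientGroup.map_mk'_self]

/-- The largest subgroup normal in the fusion system of a `p`-stable group is centric. -/
theorem isCentric_core [Finite G] [Fact p.Prime] (hp : p ≠ 2) (hst : IsNormalizerPStable p G)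
    (P : Sylow p G) :
    (groupFusionSystem (P : Subgroup G)).IsCentric
      (groupFusionSystem (P : Subgroup G)).core := by
  set F := groupFusionSystem (P : Subgroup G) with hF
  set Q := F.core with hQdef
  have hQ : F.IsNormal Q := CfsgLib.FusionFactor.isNormal_core F
  refine ⟨hQ.1, ?_⟩
  rintro Q' ⟨φ, ⟨-, hφ, g, hg⟩, rfl⟩
  obtain ⟨x, hx, hxQ⟩ :=
    exists_mem_normalizer_of_isNormal hQ hQ.1 (fun a ha => hg ⟨a, ha⟩ ▸ hφ ⟨a, ha⟩)
  have hrange : φ.range = Q := by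
    refine le_antisymm ?_ fun q hq => ?_
    · rintro _ ⟨⟨a, ha⟩, rfl⟩
      rw [hg, ← hxQ a ha]
      exact (mem_normalizer_iff.mp hx a).mp ha
    · have h1 : x⁻¹ * q * x ∈ Q := (mem_normalizer_iff''.mp hx q).mp hq
      exact ⟨⟨_, h1⟩, by rw [hg, ← hxQ _ h1]; group⟩
  rw [hrange]
  set N := normalizer (Q : Set G) with hN
  have hPN : (P : Subgroup G) ≤ N := by
    intro s hs
    obtain ⟨n, hn, hnQ⟩ := exists_mem_normalizer_of_isNormal hQ hQ.1 (g := s)
      (fun a ha => mul_mem (mul_mem hs (hQ.1 ha)) (inv_mem hs))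
    refine mem_normalizer_of_forall_conj_mem fun a ha => ?_
    rw [← hnQ a ha]
    exact (mem_normalizer_iff.mp hn a).mp ha
  have hmax : (Q.subgroupOf N).Normal := normal_subgroupOf_iff_le_normalizer_inf.mpr (by
    rw [inf_eq_left.mpr (le_normalizer (H := Q))])
  have key := centralizer_le_of_maximal hp (Cfsg.Agent.S3836.result hst N) (P.subtype hPN)
    (Q.subgroupOf N) ((P.isPGroup'.to_le hQ.1).comap_subtype) ?_
  · rintro s ⟨hs, hsC⟩
    exact key ⟨show (⟨s, hPN hs⟩ : N) ∈ (P.subtype hPN : Subgroup N) from hs,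
      mem_centralizer_iff.mpr fun a ha => Subtype.ext (mem_centralizer_iff.mp hsC (a : G) ha)⟩
  intro W hW hctrl
  have hWP : W.map N.subtype ≤ (P : Subgroup G) := by
    rintro _ ⟨w, hw, rfl⟩
    exact hW hw
  have hnormal : F.IsNormal (W.map N.subtype) := by
    refine isNormal_groupFusion_of_control hWP fun A hA g hg => ?_
    obtain ⟨n, hn, hnA⟩ := exists_mem_normalizer_of_isNormal hQ hA hg
    obtain ⟨x, hx, hxA⟩ := hctrl (A.subgroupOf N) (fun a ha => hA ha) ⟨n, hn⟩ fun a ha => by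
      show n * (a : G) * n⁻¹ ∈ (P : Subgroup G)
      rw [hnA (a : G) ha]; exact hg _ ha
    refine ⟨x, Subgroup.le_normalizer_map N.subtype (mem_map_of_mem _ hx), fun a ha => ?_⟩
    rw [← hnA a ha]
    exact congrArg Subtype.val (hxA ⟨a, hPN (hA ha)⟩ ha)
  intro w hw
  exact (le_sSup hnormal : W.map N.subtype ≤ Q) (mem_map_of_mem _ hw)

theorem isConstrained_groupFusion [Finite G] [Fact p.Prime] (hp : p ≠ 2)
    (hst : IsNormalizerPStable p G) (P : Sylow p G) :
    (groupFusionSystem (P : Subgroup G)).IsConstrained p :=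
  ⟨CfsgLib.Fusion.isSaturated_groupFusion P, _, CfsgLib.FusionFactor.isNormal_core _,
    isCentric_core hp hst P⟩

end CfsgLib.FusionPStable
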