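import Cfsg.Agent.Fusion.Basic
import Cfsg.Agent.FusionPStable.Basic
import Mathlib.NumberTheory.Multiplicity

/-!
# p-stable fusion systems and their normaliser systems

* `PStableSys p F`: the condition used in the statements.
* `inCore_of_pStable`: it then holds at every subgroup of `S`.
* `pStable_normalizerSystem`: it passes to normaliser systems.
* `inCore_of_normalizerSystem`: it comes back at `Q` from a normaliser system with the same `Aut(Q)`.
* `inCore_of_cyclic`: it holds at cyclic subgroups for odd `p`.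
-/

set_option autoImplicit false

namespace CfsgLib.FusionPStable

open Cfsg Cfsg.FusionSystem CfsgLib.Fusion

variable {Ω : Type*} [Group Ω] {S : Subgroup Ω} {F : FusionSystem S} {p : ℕ}

/-- p-stability of a fusion system. -/
def PStableSys (p : ℕ) (F : FusionSystem S) : Prop :=
  ∀ Q : Subgroup Ω, F.IsFullyNormalized Q → ∀ χ : MulAut ↥Q, χ ∈ F.autGroup Q →
    QuadAut χ → InCore p (F.autGroup Q) χ

theorem inCore_of_pStable [Finite S] (h : PStableSys p F) {Q : Subgroup Ω} (hQ : Q ≤ S)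
    {χ : MulAut Q} (hχ : χ ∈ F.autGroup Q) (hq : QuadAut χ) : InCore p (F.autGroup Q) χ := by
  obtain ⟨R, hR, hRn⟩ := exists_fullyNormalized (F := F) hQ
  obtain ⟨e, he⟩ := isConj_iff.1 hR
  have h1 := (h R hRn _ (congr_mem_autGroup he hχ) (hq.congr e)).congr e.symm (map_autGroup he.symm)
  rwa [congr_symm_congr] at h1

theorem autGroup_normalizerSystem_le {R : Subgroup Ω} {N : FusionSystem (normalizerIn S R)}
    (hN : F.IsNormalizerSystem R N) (Q : Subgroup Ω) : N.autGroup Q ≤ F.autGroup Q := by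
  refine Subgroup.closure_mono fun α hα => ?_
  have h1 : Q.subtype.comp α.toMonoidHom ∈ F.normalizerHom R Q := hN Q ▸ hα
  exact h1.1

theorem pStable_normalizerSystem [Finite S] (h : PStableSys p F) {R : Subgroup Ω}
    {N : FusionSystem (normalizerIn S R)} (hN : F.IsNormalizerSystem R N) : PStableSys p N := by
  intro Q hQ χ hχ hq
  have hQS : Q ≤ S := hQ.1.trans inf_le_left
  have := finite_of_le hQS
  exact le_pCore_of_subgroup (autGroup_normalizerSystem_le hN Q) hχ
    (inCore_of_pStable h hQS (autGroup_normalizerSystem_le hN Q hχ) hq)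

theorem inCore_of_normalizerSystem [Finite S] {R Q : Subgroup Ω}
    {N : FusionSystem (normalizerIn S R)} (hN : F.IsNormalizerSystem R N) (h : PStableSys p N)
    (hQ : Q ≤ normalizerIn S R) (haut : F.autGroup Q ≤ N.autGroup Q)
    {χ : MulAut Q} (hχ : χ ∈ F.autGroup Q) (hq : QuadAut χ) : InCore p (F.autGroup Q) χ := by
  have : Finite (normalizerIn S R) := finite_of_le inf_le_left
  have h1 := inCore_of_pStable h hQ (haut hχ) hq
  rwa [le_antisymm (autGroup_normalizerSystem_le hN Q) haut] at h1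

/-- At a cyclic `p`-group, `p` odd or even, quadratic automorphisms lie in `O_p` of any group
of automorphisms. -/
theorem inCore_of_cyclic {X : Type*} [Group X] [Finite X] [Fact p.Prime] (hX : IsPGroup p X)
    [IsCyclic X] {A : Subgroup (MulAut X)} {χ : MulAut X} (hχ : χ ∈ A) (hq : QuadAut χ) :
    InCore p A χ := by
  obtain ⟨g, hg⟩ := IsCyclic.exists_generator (α := X)
  have hgen : ∀ α : MulAut X, ∃ i : ℤ, ∀ x : X, α x = x ^ i := by
    intro α
    obtain ⟨i, hi⟩ := Subgroup.mem_zpowers_iff.mp (hg (α g))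
    refine ⟨i, fun x => ?_⟩
    obtain ⟨j, rfl⟩ := Subgroup.mem_zpowers_iff.mp (hg x)
    rw [map_zpow, ← hi, ← zpow_mul, ← zpow_mul, mul_comm]
  have hcomm : ∀ α β : MulAut X, α * β = β * α := by
    intro α β
    obtain ⟨i, hi⟩ := hgen α
    obtain ⟨j, hj⟩ := hgen β
    ext x
    simp only [MulAut.mul_apply, hi, hj, ← zpow_mul, mul_comm]
  obtain ⟨r, hr⟩ := hgen χ
  obtain ⟨n, hn⟩ := hX g
  have hg2 : g ^ ((r - 1) * (r - 1)) = 1 := by
    have h1 := quadAut_iff.mp hq g
    have e : g⁻¹ * g ^ r = g ^ (r - 1) := by group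
    rw [hr g, e, hr, ← zpow_mul] at h1
    rw [show (r - 1) * (r - 1) = (r - 1) * r - (r - 1) by ring, zpow_sub, h1, mul_inv_cancel]
  have hord : χ ^ (p ^ n) = 1 := by
    have hdvd : (p : ℤ) ∣ r - 1 ∨ g = 1 := by
      by_cases hg1 : g = 1
      · exact Or.inr hg1
      obtain ⟨k, hk⟩ := IsPGroup.iff_orderOf.mp hX g
      have hk0 : k ≠ 0 := by
        rintro rfl
        exact hg1 (orderOf_eq_one_iff.mp (by simpa using hk))
      have h2 : ((orderOf g : ℕ) : ℤ) ∣ (r - 1) * (r - 1) := orderOf_dvd_iff_zpow_eq_one.mpr hg2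
      have h3 : (p : ℤ) ∣ (r - 1) * (r - 1) :=
        dvd_trans (by rw [hk]; exact_mod_cast dvd_pow_self p hk0) h2
      rcases (Nat.prime_iff_prime_int.mp Fact.out).dvd_or_dvd h3 with h | h <;> exact Or.inl h
    have hpow : ∀ m : ℕ, ∀ x : X, (χ ^ m) x = x ^ (r ^ m) := by
      intro m
      induction m with
      | zero => intro x; simp
      | succ m ih =>
        intro x
        rw [pow_succ, MulAut.mul_apply, ih, hr, ← zpow_mul, pow_succ']
    ext x
    obtain ⟨j, rfl⟩ := Subgroup.mem_zpowers_iff.mp (hg x)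
    rw [hpow, MulAut.one_apply, ← zpow_mul, mul_comm, zpow_mul]
    congr 1
    rcases hdvd with h | h
    · have h4 : (p : ℤ) ^ (n + 1) ∣ r ^ p ^ n - 1 ^ p ^ n := dvd_sub_pow_of_dvd_sub h n
      rw [one_pow] at h4
      obtain ⟨c, hc⟩ := dvd_trans (pow_dvd_pow (p : ℤ) n.le_succ) h4
      rw [show r ^ p ^ n = ((p ^ n : ℕ) : ℤ) * c + 1 by push_cast; linarith, zpow_add_one,
        zpow_mul, zpow_natCast, hn, one_zpow, one_mul]
    · rw [h, one_zpow]
  have : Finite (MulAut X) := Finite.of_injective (fun α => (α : X → X)) DFunLike.coe_injective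
  set a : A := ⟨χ, hχ⟩
  refine ⟨a, le_pCore (N := Subgroup.zpowers a) ⟨fun y hy b => ?_⟩ ?_ (Subgroup.mem_zpowers a), rfl⟩
  · have h5 : b * y * b⁻¹ = y := by
      apply Subtype.ext
      simp only [Subgroup.coe_mul, Subgroup.coe_inv]
      rw [hcomm, ← mul_assoc, inv_mul_cancel, one_mul]
    rwa [h5]
  · intro y
    refine ⟨n, Subtype.ext ?_⟩
    obtain ⟨i, hi⟩ := Subgroup.mem_zpowers_iff.mp y.2
    rw [SubgroupClass.coe_pow, OneMemClass.coe_one, ← hi, ← zpow_natCast, ← zpow_mul, mul_comm,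
      zpow_mul, zpow_natCast]
    rw [show a ^ p ^ n = 1 from Subtype.ext (by simpa using hord), one_zpow]

end CfsgLib.FusionPStable
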