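import Cfsg.Agent.Fusion.Saturation
import Cfsg.Agent.FusionPStable.Basic

/-!
# Radical centric overgroups carrying the whole automizer

`exists_radical_overgroup`: in a saturated system, for a fully normalised `Q` some conjugate `Q'`
of `Q` lies in a fully normalised centric radical `R` to which every automorphism of `Q'` in the
system extends as an automorphism of `R`.
-/

set_option autoImplicit false

namespace CfsgLib.FusionPStable

open Cfsg Cfsg.FusionSystem CfsgLib.Fusion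

variable {Ω : Type*} [Group Ω] {S : Subgroup Ω} {F : FusionSystem S} {p : ℕ}

/-- Every automorphism of `Q` in the system extends to one of `P`. -/
def AutExtends (F : FusionSystem S) (Q P : Subgroup Ω) : Prop :=
  ∀ α ∈ F.autGroup Q, ∃ β ∈ F.autGroup P, ∀ (x : Q) (hx : (x : Ω) ∈ P),
    (β ⟨x, hx⟩ : Ω) = α x

theorem exists_autGroup_of_range [Finite S] {P : Subgroup Ω} {ψ : P →* Ω} (hψ : ψ ∈ F.Hom P)
    (h : ψ.range ≤ P) : ∃ β ∈ F.autGroup P, ∀ x : P, (β x : Ω) = ψ x := by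
  have := finite_of_le (le_left hψ)
  obtain ⟨e, he, hev⟩ := exists_iso hψ (Subgroup.eq_of_le_of_card_ge h (by
    rw [← imgHom_self, card_imgHom (F.injective_of_mem hψ) le_rfl]))
  exact ⟨e, he.mem_autGroup, hev⟩

theorem isCentric_sup_centralizerIn [Finite S] {Q : Subgroup Ω} (hQ : F.IsFullyCentralized Q) :
    F.IsCentric (Q ⊔ centralizerIn S Q) := by
  refine ⟨sup_le hQ.1 (centralizerIn_le S Q), fun R ⟨φ, hφ, hr⟩ => ?_⟩
  subst hr
  have hQ' : imgHom φ Q ≤ φ.range := imgHom_le_range φ Q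
  refine (centralizerIn_anti hQ').trans ?_
  have hle : imgHom φ (centralizerIn S Q) ≤ centralizerIn S (imgHom φ Q) := by
    rintro _ ⟨c, hc, rfl⟩
    exact Subgroup.mem_inf.2 ⟨apply_mem hφ c,
      map_mem_centralizer (ψ := φ) le_sup_left (g := c) hc.2⟩
  have := finite_of_le (centralizerIn_le S (imgHom φ Q))
  rw [← Subgroup.eq_of_le_of_card_ge hle (by
    rw [card_imgHom (F.injective_of_mem hφ) le_sup_right]
    exact hQ.2 _ (isConj_restrict hφ le_sup_left))]
  exact imgHom_le_range φ _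

theorem autExtends_sup_centralizerIn [Finite S] {Q : Subgroup Ω} (hQ : F.IsReceptive Q) :
    AutExtends F Q (Q ⊔ centralizerIn S Q) := by
  intro α hα
  have he := (mem_autGroup_iff hQ.1).1 hα
  obtain ⟨ψ, hψ, hext⟩ := exists_extension (T := Q ⊔ centralizerIn S Q) hQ he
    (sup_le (le_extender he.le_left (F.le_of_mem he).2) (centralizerIn_le_extender _))
  have himg := imgHom_eq_of_agree le_sup_left hext
  obtain ⟨β, hβ, hβv⟩ := exists_autGroup_of_range hψ (by
    have h2 : (⊤ : Subgroup ↥(Q ⊔ centralizerIn S Q)) =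
        Q.subgroupOf (Q ⊔ centralizerIn S Q) ⊔
          (centralizerIn S Q).subgroupOf (Q ⊔ centralizerIn S Q) := by
      rw [← Subgroup.subgroupOf_sup le_sup_left le_sup_right, Subgroup.subgroupOf_self]
    rw [MonoidHom.range_eq_map, h2, Subgroup.map_sup]
    refine sup_le (himg.le.trans le_sup_left) ?_
    rintro _ ⟨c, hc, rfl⟩
    refine Subgroup.mem_sup_right (Subgroup.mem_inf.2 ⟨apply_mem hψ c, ?_⟩)
    have := map_mem_centralizer (ψ := ψ) le_sup_left (g := c) (Subgroup.mem_inf.1 hc).2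
    rwa [himg] at this)
  exact ⟨β, hβ, fun x hx => (hβv _).trans (hext x hx)⟩

theorem AutExtends.transport {Q P P' : Subgroup Ω} (h : AutExtends F Q P) (hQP : Q ≤ P)
    {e : P ≃* P'} (he : IsIso F e) : ∃ (Q' : Subgroup Ω) (f : Q ≃* Q'),
      IsIso F f ∧ Q' ≤ P' ∧ AutExtends F Q' P' := by
  obtain ⟨f, hf, hfv⟩ := exists_iso_restrict he hQP
  have hQ'P' : imgHom (P'.subtype.comp e.toMonoidHom) Q ≤ P' := by
    rintro _ ⟨x, -, rfl⟩
    exact (e x).2
  refine ⟨_, f, hf, hQ'P', fun α' hα' => ?_⟩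
  obtain ⟨β, hβ, hβv⟩ := h _ (congr_mem_autGroup hf.symm hα')
  refine ⟨MulAut.congr e β, congr_mem_autGroup he hβ, fun y hy => ?_⟩
  obtain ⟨x, rfl⟩ := f.surjective y
  have h1 : (⟨(f x : Ω), hy⟩ : P') = e ⟨x, hQP x.2⟩ := Subtype.ext (hfv x)
  rw [h1, congr_apply]
  have h2 : β ⟨(x : Ω), hQP x.2⟩ = ⟨_, hQP (MulAut.congr f.symm α' x).2⟩ :=
    Subtype.ext (hβv x (hQP x.2))
  rw [h2]
  refine (hfv _).symm.trans (congrArg Subtype.val ?_)
  rw [MulAut.congr_apply]
  exact f.apply_symm_apply _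

/-- A larger subgroup with the extension property when `P` is not radical. -/
theorem exists_bigger [Finite S] [Fact p.Prime] (hS : IsPGroup p S) (hF : F.IsSaturated p)
    {Q P : Subgroup Ω} (hP : F.IsFullyNormalized P) (hQP : Q ≤ P) (h : AutExtends F Q P)
    (hrad : ¬ F.IsRadical p P) : ∃ M, P < M ∧ M ≤ S ∧ AutExtends F Q M := by
  obtain ⟨hPa, hPr⟩ := automized_receptive hS hF hP
  have hfP := finite_of_le hP.1
  set A : Subgroup (MulAut P) := (Cfsg.pCore p (F.autGroup P)).map (F.autGroup P).subtype with hA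
  have hAS : A ≤ autInducedBy S P := by
    obtain ⟨T, hT⟩ := hPa.2
    rintro _ ⟨a, ha, rfl⟩
    exact (hT ▸ pCore_le_sylow T ha : a ∈ (autInducedBy S P).subgroupOf (F.autGroup P))
  have hInn : Inn P ≤ A := by
    intro α hα
    refine ⟨⟨α, Inn_le_autGroup hP.1 hα⟩,
      le_pCore (N := (Inn P).subgroupOf (F.autGroup P)) ((Inn_normal P).comap _) ?_ hα, rfl⟩
    refine IsPGroup.comap_subtype ?_
    rw [Inn_eq]
    exact isPGroup_autInducedBy (hS.to_le hP.1) P
  set M : Subgroup Ω := S ⊓ (A.comap P.normalizerMonoidHom).map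
    (Subgroup.normalizer (P : Set Ω)).subtype with hM
  have hmemM : ∀ g (hg : g ∈ Subgroup.normalizer (P : Set Ω)), g ∈ S →
      P.normalizerMonoidHom ⟨g, hg⟩ ∈ A → g ∈ M :=
    fun g hg hgS hgA => Subgroup.mem_inf.2 ⟨hgS, ⟨g, hg⟩, hgA, rfl⟩
  have hMN : ∀ g ∈ M, ∃ hg : g ∈ Subgroup.normalizer (P : Set Ω),
      P.normalizerMonoidHom ⟨g, hg⟩ ∈ A := by
    rintro _ ⟨-, g, hg, rfl⟩
    exact ⟨g.2, hg⟩
  have hPM : P ≤ M := fun g hg => hmemM g (Subgroup.le_normalizer hg) (hP.1 hg)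
    (hInn ⟨⟨g, hg⟩, MulEquiv.ext fun x => Subtype.ext rfl⟩)
  refine ⟨M, lt_of_le_of_ne hPM ?_, inf_le_left, fun α hα => ?_⟩
  · intro heq
    apply hrad ∘ fun h => (⟨hP.1, h⟩ : F.IsRadical p P)
    refine le_antisymm (fun α hα => ?_) hInn
    obtain ⟨g, hgS, hgN, hg⟩ := mem_autInducedBy_iff.1 (hAS hα)
    have hval : P.normalizerMonoidHom ⟨g, hgN⟩ = α :=
      MulEquiv.ext fun x => Subtype.ext (hg x).symm
    have hgP : g ∈ P := by rw [heq]; exact hmemM g hgN hgS (hval ▸ hα)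
    exact ⟨⟨g, hgP⟩, MulEquiv.ext fun x => Subtype.ext (hg x).symm⟩
  · obtain ⟨β, hβ, hβv⟩ := h α hα
    have hnorm : ∀ γ ∈ A, β * γ * β⁻¹ ∈ A := by
      rintro _ ⟨a, ha, rfl⟩
      exact ⟨_, (pCore_normal (p := p)).conj_mem a ha ⟨β, hβ⟩, rfl⟩
    obtain ⟨ψ, hψ, hext⟩ := exists_extension (T := M) hPr ((mem_autGroup_iff hP.1).1 hβ)
      fun g hg => by
        obtain ⟨hgN, hgA⟩ := hMN g hg
        exact mem_extender_of_congr ⟨hg.1, hgN⟩ (α := P.normalizerMonoidHom ⟨g, hgN⟩)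
          (fun _ => rfl) (congr_self_eq β _ ▸ hAS (hnorm _ hgA))
    have himg := imgHom_eq_of_agree hPM hext
    obtain ⟨γ, hγ, hγv⟩ := exists_autGroup_of_range hψ (by
      rintro _ ⟨⟨g, hg⟩, rfl⟩
      obtain ⟨hgN, hgA⟩ := hMN g hg
      have hN : ψ ⟨g, hg⟩ ∈ Subgroup.normalizer (P : Set Ω) := by
        have := map_mem_normalizer (ψ := ψ) hPM (g := ⟨g, hg⟩) hgN
        rwa [himg] at this
      refine hmemM _ hN (apply_mem hψ _) ?_
      have heq : P.normalizerMonoidHom ⟨ψ ⟨g, hg⟩, hN⟩ =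
          β * P.normalizerMonoidHom ⟨g, hgN⟩ * β⁻¹ := by
        refine MulEquiv.ext fun y => Subtype.ext ?_
        obtain ⟨x, rfl⟩ := β.surjective y
        simp only [MulAut.mul_apply, MulAut.inv_apply_self, normalizerMonoidHom_coe]
        rw [← hext x (hPM x.2), ← map_inv, ← map_mul, ← map_mul,
          ← hext (P.normalizerMonoidHom ⟨g, hgN⟩ x) (hPM _)]
        · rfl
        · exact (P.normalizerMonoidHom ⟨g, hgN⟩ x).2
      exact heq ▸ hnorm _ hgA)
    exact ⟨γ, hγ, fun x hx => (hγv _).trans ((hext ⟨x, hQP x.2⟩ hx).trans (hβv x _))⟩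

/-- Some conjugate of a fully normalised `Q` has a fully normalised centric radical overgroup to
which all its automorphisms extend. -/
theorem exists_radical_overgroup [Finite S] [Fact p.Prime] (hS : IsPGroup p S)
    (hF : F.IsSaturated p) {Q : Subgroup Ω} (hQ : F.IsFullyNormalized Q) :
    ∃ (Q' R : Subgroup Ω) (e : Q ≃* Q'), IsIso F e ∧ Q' ≤ R ∧ F.IsFullyNormalized R ∧
      F.IsCentric R ∧ F.IsRadical p R ∧ AutExtends F Q' R := by
  set s : Set (Subgroup Ω) := {R | F.IsCentric R ∧ ∃ (Q' : Subgroup Ω) (e : Q ≃* Q'),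
    IsIso F e ∧ Q' ≤ R ∧ AutExtends F Q' R}
  have hQr := (automized_receptive hS hF hQ).2
  have hne : Q ⊔ centralizerIn S Q ∈ s :=
    ⟨isCentric_sup_centralizerIn (isFullyCentralized_of_receptive hQr), Q, MulEquiv.refl Q,
      IsIso.refl hQ.1, le_sup_left, autExtends_sup_centralizerIn hQr⟩
  obtain ⟨P, ⟨hPc, Q₁, e₁, he₁, hQ₁, hExt⟩, hmax⟩ := Set.exists_max_image s
    (fun R => Nat.card R) (finite_subgroups.subset fun R hR => hR.1.1) ⟨_, hne⟩
  obtain ⟨R, hPR, hRn⟩ := exists_fullyNormalized (F := F) hPc.1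
  obtain ⟨e, he⟩ := isConj_iff.1 hPR
  obtain ⟨Q₂, f, hf, hQ₂, hExt₂⟩ := hExt.transport hQ₁ he
  refine ⟨Q₂, R, e₁.trans f, he₁.trans hf, hQ₂, hRn, isCentric_of_isConj hPc hPR, ?_, hExt₂⟩
  by_contra hrad
  obtain ⟨M, hRM, hMS, hExtM⟩ := exists_bigger hS hF hRn hQ₂ hExt₂ hrad
  have := finite_of_le hMS
  have h1 := hmax M ⟨isCentric_of_le (isCentric_of_isConj hPc hPR) hRM.le hMS, Q₂, e₁.trans f,
    he₁.trans hf, hQ₂.trans hRM.le, hExtM⟩
  have h2 : Nat.card R < Nat.card M := Set.Finite.card_lt_card (Set.toFinite _) hRM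
  exact absurd (card_eq_of_isConj hPR ▸ h1) (not_le.2 h2)

end CfsgLib.FusionPStable
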