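import Cfsg.Agent.Techniques.StableQuotient
import Cfsg.Agent.PLocal.ZJTheorem
import Cfsg.Prelude.Def_PLocal

/-!
# Quotients of `p`-stable groups (normalizer form)

`p`-stability in the normalizer form passes to quotients by normal `p'`-subgroups and, for odd
`p`, by normal `p`-subgroups centralised by all `p'`-elements; it gives `p`-stability on every
normal `p`-subgroup.
-/

set_option autoImplicit false

namespace CfsgLib.FusionPStable

open Cfsg Subgroup
open scoped commutatorElement

variable {G H : Type*} [Group G] [Group H] {p : ℕ}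

/-- Membership in `O_p(N(P)/C(P))` passes to an image on which the normalizer maps onto. -/
theorem mem_pCore_normalizer_map (f : G →* H) {P : Subgroup G} {Pb : Subgroup H}
    (hPb : P.map f = Pb)
    (hN : normalizer (Pb : Set H) = (normalizer (P : Set G)).map f)
    {g : G} (hg : g ∈ normalizer (P : Set G))
    (h : (QuotientGroup.mk ⟨g, hg⟩ : ↥(normalizer (P : Set G)) ⧸
        (centralizer (P : Set G)).subgroupOf (normalizer (P : Set G))) ∈ pCore p _)
    (hfg : f g ∈ normalizer (Pb : Set H)) :
    (QuotientGroup.mk ⟨f g, hfg⟩ : ↥(normalizer (Pb : Set H)) ⧸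
        (centralizer (Pb : Set H)).subgroupOf (normalizer (Pb : Set H))) ∈ pCore p _ := by
  subst hPb
  set CH := (centralizer ((P.map f : Subgroup H) : Set H)).subgroupOf
    (normalizer ((P.map f : Subgroup H) : Set H))
  let f₀ : ↥(normalizer (P : Set G)) →* ↥(normalizer ((P.map f : Subgroup H) : Set H)) :=
    (f.comp (normalizer (P : Set G)).subtype).codRestrict _ fun x =>
      hN ▸ mem_map_of_mem f x.2
  have hle : (centralizer (P : Set G)).subgroupOf (normalizer (P : Set G)) ≤
      ((QuotientGroup.mk' CH).comp f₀).ker := by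
    intro c hc
    rw [MonoidHom.mem_ker]
    refine (QuotientGroup.eq_one_iff _).mpr ?_
    rintro _ ⟨x, hx, rfl⟩
    show f x * f c = f c * f x
    rw [← map_mul, ← map_mul]
    exact congrArg f (mem_centralizer_iff.mp hc x hx)
  have hsurj : Function.Surjective (QuotientGroup.lift _ ((QuotientGroup.mk' CH).comp f₀) hle) := by
    intro y
    obtain ⟨⟨z, hz⟩, rfl⟩ := QuotientGroup.mk'_surjective CH y
    rw [hN] at hz
    obtain ⟨w, hw, rfl⟩ := hz
    exact ⟨QuotientGroup.mk ⟨w, hw⟩, rfl⟩
  exact CfsgLib.PLocal.map_pCore_le_of_surjective hsurj (mem_map_of_mem _ h)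

/-- Stability passes to quotients by normal subgroups of order prime to `p`. -/
theorem isNormalizerPStable_quotient_of_coprime [Finite G] [Fact p.Prime]
    (hst : IsNormalizerPStable p G) (K : Subgroup G) [K.Normal]
    (hK : (Nat.card K).Coprime p) : IsNormalizerPStable p (G ⧸ K) := by
  intro Pb hPb gb hgb hq
  set π := QuotientGroup.mk' K with hπ
  have hπs : Function.Surjective π := QuotientGroup.mk'_surjective K
  let T : Sylow p ↥(Pb.comap π) := default
  set P : Subgroup G := (T : Subgroup ↥(Pb.comap π)).map (Pb.comap π).subtype with hP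
  have hPp : IsPGroup p P := T.isPGroup'.map _
  have hPmap : P.map π = Pb := by
    let π₀ : ↥(Pb.comap π) →* ↥Pb := (π.comp (Pb.comap π).subtype).codRestrict _ fun x => x.2
    have hπ₀ : Function.Surjective π₀ := by
      rintro ⟨y, hy⟩
      obtain ⟨x, rfl⟩ := hπs y
      exact ⟨⟨x, hy⟩, rfl⟩
    let T₀ := T.mapSurjective hπ₀
    have htop : (T₀ : Subgroup ↥Pb) = ⊤ := (T₀.is_maximal' (hPb.to_subgroup ⊤) le_top).symm
    refine le_antisymm ?_ fun y hy => ?_
    · rintro _ ⟨_, ⟨x, -, rfl⟩, rfl⟩
      exact x.2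
    · obtain ⟨x, hx, hxy⟩ : (⟨y, hy⟩ : ↥Pb) ∈ (T₀ : Subgroup ↥Pb) := htop ▸ mem_top _
      exact ⟨x, ⟨x, hx, rfl⟩, congrArg Subtype.val hxy⟩
  have hN : normalizer ((P.map π : Subgroup (G ⧸ K)) : Set (G ⧸ K)) =
      (normalizer (P : Set G)).map π :=
    CfsgLib.PLocal.normalizer_map_mk'_eq K hK hPp
  rw [hPmap] at hN
  obtain ⟨g, hg, rfl⟩ : gb ∈ (normalizer (P : Set G)).map π := hN ▸ hgb
  refine mem_pCore_normalizer_map π hPmap hN hg (hst P hPp g hg ?_) hgb
  have hA : Subgroup.zpowers g ≤ normalizer (P : Set G) := zpowers_le.mpr hg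
  rw [eq_bot_iff, ← CfsgLib.PLocal.disjoint_of_isPGroup_of_coprime hPp hK]
  refine le_inf ?_ ?_
  · exact (commutator_mono (CfsgLib.PLocal.commutator_le_of_le_normalizer hA) le_rfl).trans
      (CfsgLib.PLocal.commutator_le_of_le_normalizer hA)
  · rw [← QuotientGroup.ker_mk' K, ← Subgroup.map_eq_bot_iff, ← hπ, map_commutator,
      map_commutator, MonoidHom.map_zpowers, hPmap, hq]

/-- For odd `p`, stability passes to the quotient by a normal `p`-subgroup centralised by every
element of order prime to `p`. -/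
theorem isNormalizerPStable_quotient_of_centralized [Finite G] [Fact p.Prime] (hp : p ≠ 2)
    (hst : IsNormalizerPStable p G) (Q : Subgroup G) [Q.Normal] (hQp : IsPGroup p Q)
    (hQ : ∀ k : G, (orderOf k).Coprime p → ∀ q ∈ Q, k * q = q * k) :
    IsNormalizerPStable p (G ⧸ Q) := by
  intro Pb hPb gb hgb hq
  set π := QuotientGroup.mk' Q with hπ
  have hπs : Function.Surjective π := QuotientGroup.mk'_surjective Q
  set P := Pb.comap π with hP
  have hPp : IsPGroup p P :=
    hPb.comap_of_ker_isPGroup π (by rw [hπ, QuotientGroup.ker_mk']; exact hQp)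
  have hPmap : P.map π = Pb := map_comap_eq_self_of_surjective hπs Pb
  have hN0 : (normalizer (Pb : Set (G ⧸ Q))).comap π = normalizer (P : Set G) :=
    comap_normalizer_eq_of_surjective Pb hπs
  obtain ⟨g, rfl⟩ := hπs gb
  have hg : g ∈ normalizer (P : Set G) := hN0 ▸ hgb
  have hmem := CfsgLib.Techniques.mem_pCore_of_quadratic_mod' hp hst (Q := Q) hPp hQ hg
    (fun w hw => by
      have h1 : ⁅⁅π w, π g⁆, π g⁆ ∈ ⁅⁅Pb, Subgroup.zpowers (π g)⁆, Subgroup.zpowers (π g)⁆ :=
        commutator_mem_commutator (commutator_mem_commutator hw (mem_zpowers _)) (mem_zpowers _)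
      rw [hq, mem_bot, ← map_commutatorElement, ← map_commutatorElement] at h1
      exact (QuotientGroup.eq_one_iff _).mp h1)
  have hN : normalizer (Pb : Set (G ⧸ Q)) = (normalizer (P : Set G)).map π := by
    rw [← hN0, map_comap_eq_self_of_surjective hπs]
  exact mem_pCore_normalizer_map π hPmap hN hg hmem hgb

/-- Stability in the normalizer form gives stability on every normal `p`-subgroup. -/
theorem isPStableOn_of_normalizerPStable (hst : IsNormalizerPStable p G) (V : Subgroup G)
    [V.Normal] (hV : IsPGroup p V) : IsPStableOn p V := by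
  intro a ha
  have haN : a ∈ normalizer (V : Set G) := (normalizer_eq_top V).ge (mem_top a)
  have h := hst V hV a haN ha
  let f : ↥(normalizer (V : Set G)) →* G ⧸ centralizer (V : Set G) :=
    (QuotientGroup.mk' _).comp (normalizer (V : Set G)).subtype
  have hle : (centralizer (V : Set G)).subgroupOf (normalizer (V : Set G)) ≤ f.ker := fun c hc =>
    MonoidHom.mem_ker.mpr ((QuotientGroup.eq_one_iff _).mpr hc)
  have hfs : Function.Surjective f := fun y => by
    obtain ⟨x, rfl⟩ := QuotientGroup.mk'_surjective _ y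
    exact ⟨⟨x, (normalizer_eq_top V).ge (mem_top x)⟩, rfl⟩
  have hls : Function.Surjective (QuotientGroup.lift _ f hle) :=
    fun y => let ⟨x, hx⟩ := hfs y; ⟨QuotientGroup.mk x, hx⟩
  exact CfsgLib.PLocal.map_pCore_le_of_surjective hls (mem_map_of_mem _ h)

end CfsgLib.FusionPStable
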